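import Mathlib
import Groth.Agent.Lib.Helper1.ZMTa9
import Groth.Agent.Lib.Helper7.StalkLim.Cone
import Groth.Agent.S9190

set_option linter.style.haveILetI false
set_option linter.unusedVariables false
set_option linter.unusedSectionVars false
set_option autoImplicit false
set_option backward.isDefEq.respectTransparency.types false
set_option backward.isDefEq.respectTransparency false
set_option synthInstance.maxHeartbeats 400000
set_option maxHeartbeats 1600000

universe u

/-! helper7: pointwise (stalkwise) criterion for a finite type morphism to a Noetherian scheme to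
factor as an immersion followed by a finite morphism (S4825). -/

open CategoryTheory CategoryTheory.Limits AlgebraicGeometry Opposite TopologicalSpace

namespace Groth.Agent.Helper7.PseudoFin

open Groth.Agent.Helper7

/-- base change of an immersion-finite factorization to the local scheme at a point. -/
theorem forward {X Y : Scheme.{u}} (f : X ⟶ Y) {Y' : Scheme.{u}} (f' : X ⟶ Y') (u : Y' ⟶ Y)
    [IsImmersion f'] [IsFinite u] (hfac : f' ≫ u = f) (y : Y) :
    ∃ (Z : Scheme.{u}) (g : pullback f (Y.fromSpecStalk y) ⟶ Z)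
      (v : Z ⟶ Spec (Y.presheaf.stalk y)),
      IsImmersion g ∧ IsFinite v ∧ g ≫ v = pullback.snd f (Y.fromSpecStalk y) := by
  have hc : (pullback.fst f (Y.fromSpecStalk y) ≫ f') ≫ u =
      pullback.snd f (Y.fromSpecStalk y) ≫ Y.fromSpecStalk y := by
    rw [Category.assoc, hfac, pullback.condition]
  refine ⟨pullback u (Y.fromSpecStalk y), pullback.lift _ _ hc,
    pullback.snd u (Y.fromSpecStalk y), ?_, inferInstance, pullback.lift_snd _ _ _⟩
  have hbig : IsPullback (pullback.fst f (Y.fromSpecStalk y))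
      (pullback.lift _ _ hc ≫ pullback.snd u (Y.fromSpecStalk y)) (f' ≫ u)
      (Y.fromSpecStalk y) := by
    rw [pullback.lift_snd, hfac]
    exact IsPullback.of_hasPullback f (Y.fromSpecStalk y)
  have htop := IsPullback.of_bot hbig (pullback.lift_fst _ _ hc).symm
    (IsPullback.of_hasPullback u (Y.fromSpecStalk y))
  exact MorphismProperty.of_isPullback (P := @IsImmersion) htop inferInstance

/-- finiteness of the fibre from local quasi-finiteness of the base change to the local scheme. -/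
theorem finite_fibre {X Y : Scheme.{u}} (f : X ⟶ Y) [QuasiCompact f] (y : Y)
    [LocallyQuasiFinite (pullback.snd f (Y.fromSpecStalk y))] :
    (f ⁻¹' {y}).Finite := by
  have hfin := (pullback.snd f (Y.fromSpecStalk y)).finite_preimage_singleton
    (IsLocalRing.closedPoint (Y.presheaf.stalk y))
  refine (hfin.image (pullback.fst f (Y.fromSpecStalk y))).subset ?_
  intro x hx
  obtain ⟨z, hz1, hz2⟩ := Scheme.Pullback.exists_preimage_pullback (f := f)
    (g := Y.fromSpecStalk y) x (IsLocalRing.closedPoint (Y.presheaf.stalk y))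
    (by rw [Scheme.fromSpecStalk_closedPoint]; exact hx)
  exact ⟨z, hz2, hz1⟩

/-- separatedness spreads out from the local scheme at a point to an open neighbourhood. -/
theorem exists_nhd_isSeparated {X Y : Scheme.{u}} (f : X ⟶ Y) [IsLocallyNoetherian Y]
    [LocallyOfFiniteType f] [QuasiCompact f] (y : Y)
    [IsSeparated (pullback.snd f (Y.fromSpecStalk y))] :
    ∃ V : Y.Opens, y ∈ V ∧ IsSeparated (f ∣_ V) := by
  obtain ⟨W⟩ : Nonempty (StalkLim.Nb Y y) := inferInstance
  obtain ⟨hc⟩ := StalkLim.isLimit_nbCone Y y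
  haveI : IsLocallyNoetherian X := LocallyOfFiniteType.isLocallyNoetherian f
  haveI : IsAffine (W.1.toScheme) := W.2.1
  haveI : CompactSpace ↥(f ⁻¹ᵁ W.1).toScheme :=
    QuasiCompact.compactSpace_of_compactSpace (f ∣_ W.1)
  haveI : IsLocallyNoetherian (f ⁻¹ᵁ W.1).toScheme := inferInstance
  haveI : QuasiSeparatedSpace ↥(f ⁻¹ᵁ W.1).toScheme := inferInstance
  have hX : IsPullback (Y := (StalkLim.nbCone Y y).pt) (Z := (StalkLim.nbDiag Y y).obj W)
      (StalkLim.toPreimage f W) (pullback.snd f (Y.fromSpecStalk y))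
      (f ∣_ W.1) ((StalkLim.nbCone Y y).π.app W) := StalkLim.isPullback_toPreimage f W
  have hY : IsPullback (P := (StalkLim.nbCone Y y).pt) (X := (StalkLim.nbDiag Y y).obj W)
      (Y := (StalkLim.nbCone Y y).pt) (Z := (StalkLim.nbDiag Y y).obj W)
      ((StalkLim.nbCone Y y).π.app W) (𝟙 (StalkLim.nbCone Y y).pt)
      (𝟙 ((StalkLim.nbDiag Y y).obj W)) ((StalkLim.nbCone Y y).π.app W) :=
    IsPullback.of_vert_isIso ⟨(Category.comp_id _).trans (Category.id_comp _).symm⟩
  obtain ⟨U, φ, Xi, Yi, fi, gi, pY, pX, h1, h2, hsep⟩ :=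
    Groth.Agent.S9190.result (StalkLim.nbDiag Y y) (StalkLim.nbCone Y y) hc W
      (X₀ := (f ⁻¹ᵁ W.1).toScheme) (Y₀ := (StalkLim.nbDiag Y y).obj W)
      (X := pullback f (Y.fromSpecStalk y)) (Y := (StalkLim.nbCone Y y).pt)
      (f ∣_ W.1) (𝟙 ((StalkLim.nbDiag Y y).obj W))
      (pullback.snd f (Y.fromSpecStalk y)) (𝟙 (StalkLim.nbCone Y y).pt)
      ((StalkLim.nbCone Y y).π.app W) (StalkLim.toPreimage f W) hY hX
  haveI := hsep
  haveI : IsIso gi := h1.isIso_snd_of_isIso
  have hpY : pY = gi ≫ (StalkLim.nbDiag Y y).map φ := by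
    have := h1.w
    rwa [Category.comp_id] at this
  have hφ : (StalkLim.nbDiag Y y).map φ ≫ W.1.ι = U.1.ι :=
    Y.homOfLE_ι (Subtype.coe_le_coe.mpr (leOfHom φ))
  have hP0 : IsPullback (pX ≫ (f ⁻¹ᵁ W.1).ι) fi f (pY ≫ W.1.ι) :=
    h2.paste_horiz (isPullback_morphismRestrict f W.1).flip
  have hbot : pY ≫ W.1.ι = gi ≫ U.1.ι := by rw [hpY, Category.assoc, hφ]
  rw [hbot] at hP0
  have hP : IsPullback (pX ≫ (f ⁻¹ᵁ W.1).ι) (fi ≫ gi) f U.1.ι :=
    IsPullback.of_iso hP0 (Iso.refl _) (Iso.refl _) (asIso gi) (Iso.refl _)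
      (by simp) (by simp) (by simp) (by simp)
  have e : f ∣_ U.1 = (StalkLim.stageIso f U.1 hP).inv ≫ fi ≫ gi := by
    rw [← cancel_mono U.1.ι, morphismRestrict_ι]
    calc (f ⁻¹ᵁ U.1).ι ≫ f
        = ((StalkLim.stageIso f U.1 hP).inv ≫ (pX ≫ (f ⁻¹ᵁ W.1).ι)) ≫ f := by
          rw [StalkLim.stageIso_inv_m]
      _ = (StalkLim.stageIso f U.1 hP).inv ≫ ((fi ≫ gi) ≫ U.1.ι) := by
          rw [Category.assoc, hP.w]
      _ = ((StalkLim.stageIso f U.1 hP).inv ≫ fi ≫ gi) ≫ U.1.ι := by
          simp only [Category.assoc]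
  refine ⟨U.1, U.2.2, ?_⟩
  rw [e]
  infer_instance

/-- the converse: stalkwise factorizations give a global one. -/
theorem converse {X Y : Scheme.{u}} (f : X ⟶ Y) [IsNoetherian Y]
    [LocallyOfFiniteType f] [QuasiCompact f]
    (h : ∀ y : Y, ∃ (Z : Scheme.{u}) (g : pullback f (Y.fromSpecStalk y) ⟶ Z)
      (v : Z ⟶ Spec (Y.presheaf.stalk y)),
      IsImmersion g ∧ IsFinite v ∧ g ≫ v = pullback.snd f (Y.fromSpecStalk y)) :
    ∃ (Y' : Scheme.{u}) (f' : X ⟶ Y') (u : Y' ⟶ Y), IsImmersion f' ∧ IsFinite u ∧ f' ≫ u = f := by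
  have hsnd : ∀ y : Y, LocallyQuasiFinite (pullback.snd f (Y.fromSpecStalk y)) ∧
      IsSeparated (pullback.snd f (Y.fromSpecStalk y)) := by
    intro y
    obtain ⟨Z, g, v, hg, hv, hfac⟩ := h y
    haveI := hg
    haveI := hv
    rw [← hfac]
    exact ⟨inferInstance, inferInstance⟩
  haveI : LocallyQuasiFinite f := by
    refine locallyQuasiFinite_iff_finite_preimage_singleton.mpr fun y => ?_
    haveI := (hsnd y).1
    exact finite_fibre f y
  haveI : IsSeparated f := by
    have hloc : ∀ y : Y, ∃ V : Y.Opens, y ∈ V ∧ IsSeparated (f ∣_ V) := by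
      intro y
      haveI := (hsnd y).2
      exact exists_nhd_isSeparated f y
    choose V hyV hV using hloc
    refine IsZariskiLocalAtTarget.of_iSup_eq_top (P := @IsSeparated) V ?_ hV
    rw [eq_top_iff]
    intro y _
    exact Opens.mem_iSup.mpr ⟨y, hyV y⟩
  obtain ⟨T, j, π, hj, hjqc, hπ, hjπ⟩ := Groth.Agent.Helper1.ZMTa.zmt_qcqs f
  haveI := hj
  exact ⟨T, j, π, inferInstance, hπ, hjπ⟩

end Groth.Agent.Helper7.PseudoFin
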